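import Groth.Agent.Lib.ArtinCrit5.Basic
import Groth.Agent.Lib.FSFlat3.Forward
import Groth.Agent.Lib.FlatDepth.HomBC
import Groth.Agent.Lib.CAlgLow.GeomReg
import Groth.Agent.Lib.FibDepth5.GeomRedOpen
import Groth.Agent.Lib.EGA43Top.FibreStalk

/-!
# Smooth points: flatness and geometrically regular fibre rings
-/

set_option autoImplicit false

universe u

open IsLocalRing CategoryTheory AlgebraicGeometry TensorProduct

set_option backward.isDefEq.respectTransparency.types false

namespace Groth.Agent.SmoothGeomReg5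

/-- The fibre ring of a local homomorphism is geometrically regular over the residue field. -/
def GR {A B : Type u} [CommRing A] [CommRing B] [IsLocalRing A] (φ : A →+* B) : Prop :=
  letI : Algebra (ResidueField A) (B ⧸ (maximalIdeal A).map φ) :=
    (Ideal.quotientMap ((maximalIdeal A).map φ) φ Ideal.le_comap_map).toAlgebra
  CAlg.IsGeometricallyRegular (ResidueField A) (B ⧸ (maximalIdeal A).map φ)

theorem geomReg_congr {k k' S S' : Type u} [Field k] [Field k'] [CommRing S] [CommRing S']
    [Algebra k S] [Algebra k' S'] (e : k →+* k') (he : Function.Bijective e) (g : S ≃+* S')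
    (hc : ∀ a, g (algebraMap k S a) = algebraMap k' S' (e a))
    (h : CAlg.IsGeometricallyRegular k S) : CAlg.IsGeometricallyRegular k' S' := by
  letI : Algebra k k' := e.toAlgebra
  letI : Algebra k S' := ((algebraMap k' S').comp e).toAlgebra
  haveI : IsScalarTower k k' S' := .of_algebraMap_eq' rfl
  have h' : CAlg.IsGeometricallyRegular k S' :=
    FlatDepth.geomRegular_of_algEquiv (AlgEquiv.ofRingEquiv (f := g) hc) h
  let L : k' ⊗[k] S' →ₐ[k'] S' :=
    Algebra.TensorProduct.lift (Algebra.ofId k' S') (AlgHom.id k S') (fun a b => Commute.all _ _)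
  have hb : Function.Bijective L := by
    have hsurj : Function.Surjective (Algebra.TensorProduct.includeRight : S' →ₐ[k] k' ⊗[k] S') := by
      intro z
      induction z using TensorProduct.induction_on with
      | zero => exact ⟨0, map_zero _⟩
      | tmul a b =>
          obtain ⟨a, rfl⟩ := he.2 a
          refine ⟨a • b, ?_⟩
          show (1 : k') ⊗ₜ[k] (a • b) = algebraMap k k' a ⊗ₜ[k] b
          rw [TensorProduct.tmul_smul, TensorProduct.smul_tmul', Algebra.algebraMap_eq_smul_one]
      | add x y hx hy =>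
          obtain ⟨x, rfl⟩ := hx
          obtain ⟨y, rfl⟩ := hy
          exact ⟨x + y, map_add _ _ _⟩
    refine ⟨fun x y hxy => ?_, fun s => ⟨1 ⊗ₜ s, by simp [L]⟩⟩
    obtain ⟨x, rfl⟩ := hsurj x
    obtain ⟨y, rfl⟩ := hsurj y
    congr 1
    simpa [L] using hxy
  exact FlatDepth.geomRegular_of_algEquiv (AlgEquiv.ofBijective L hb) (CAlgLow.geomRegular_transfer he S' h')

/-- Transport of `GR` along a square with surjective horizontal maps inducing the fibre ring. -/
theorem gr_of_square {A B P S : Type u} [CommRing A] [CommRing B] [CommRing P] [CommRing S]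
    [IsLocalRing A] [IsLocalRing P] (φ : A →+* B) (ψ : P →+* S) (π : A →+* P) (β : B →+* S)
    (hπ : Function.Surjective π) (hβ : Function.Surjective β)
    (hker : RingHom.ker β ≤ (maximalIdeal A).map φ) (hc : β.comp φ = ψ.comp π) (h : GR φ) : GR ψ := by
  haveI : IsLocalHom π := IsLocalHom.of_surjective _ hπ
  have hmap : ((maximalIdeal A).map φ).map β = (maximalIdeal P).map ψ := by
    rw [Ideal.map_map, hc, ← Ideal.map_map, map_maximalIdeal_of_surjective π hπ]
  let q : B →+* S ⧸ (maximalIdeal P).map ψ := (Ideal.Quotient.mk _).comp β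
  have hq : RingHom.ker q = (maximalIdeal A).map φ := by
    rw [← RingHom.comap_ker, Ideal.mk_ker, ← hmap, Ideal.comap_map_of_surjective β hβ,
      ← RingHom.ker_eq_comap_bot, sup_eq_left]
    exact hker
  let g : (B ⧸ (maximalIdeal A).map φ) ≃+* (S ⧸ (maximalIdeal P).map ψ) :=
    (Ideal.quotEquivOfEq hq.symm).trans
      (RingHom.quotientKerEquivOfSurjective (f := q) (Ideal.Quotient.mk_surjective.comp hβ))
  letI : Algebra (ResidueField A) (B ⧸ (maximalIdeal A).map φ) :=
    (Ideal.quotientMap ((maximalIdeal A).map φ) φ Ideal.le_comap_map).toAlgebra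
  letI : Algebra (ResidueField P) (S ⧸ (maximalIdeal P).map ψ) :=
    (Ideal.quotientMap ((maximalIdeal P).map ψ) ψ Ideal.le_comap_map).toAlgebra
  refine geomReg_congr (ResidueField.map π) ⟨(ResidueField.map π).injective, fun z => ?_⟩ g (fun a => ?_) h
  · obtain ⟨p, rfl⟩ := residue_surjective z
    obtain ⟨a, rfl⟩ := hπ p
    exact ⟨residue A a, ResidueField.map_residue π a⟩
  · obtain ⟨a, rfl⟩ := residue_surjective a
    show Ideal.Quotient.mk _ (β (φ a)) = Ideal.Quotient.mk _ (ψ (π a))
    exact congrArg _ (RingHom.congr_fun hc a)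

theorem gr_iff_geomRegular_tensor {A B : Type u} [CommRing A] [CommRing B] [IsLocalRing A] [Algebra A B] :
    GR (algebraMap A B) ↔ CAlg.IsGeometricallyRegular (ResidueField A) (ResidueField A ⊗[A] B) := by
  letI : Algebra (ResidueField A) (B ⧸ (maximalIdeal A).map (algebraMap A B)) :=
    (Ideal.quotientMap ((maximalIdeal A).map (algebraMap A B)) (algebraMap A B) Ideal.le_comap_map).toAlgebra
  haveI : IsScalarTower A (ResidueField A) (B ⧸ (maximalIdeal A).map (algebraMap A B)) :=
    .of_algebraMap_eq fun _ => rfl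
  let L : ResidueField A ⊗[A] B →ₐ[ResidueField A] B ⧸ (maximalIdeal A).map (algebraMap A B) :=
    Algebra.TensorProduct.lift (Algebra.ofId _ _) (Ideal.Quotient.mkₐ A _) (fun a b => Commute.all _ _)
  have hsurj : Function.Surjective (Algebra.TensorProduct.includeRight : B →ₐ[A] ResidueField A ⊗[A] B) :=
    Algebra.TensorProduct.includeRight_surjective B residue_surjective
  have hL : ∀ b, L (Algebra.TensorProduct.includeRight b) = Ideal.Quotient.mk _ b := fun b => by simp [L]
  have hle : (maximalIdeal A).map (algebraMap A B) ≤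
      RingHom.ker (Algebra.TensorProduct.includeRight : B →ₐ[A] ResidueField A ⊗[A] B).toRingHom := by
    rw [Ideal.map_le_iff_le_comap]
    intro a ha
    show Algebra.TensorProduct.includeRight (algebraMap A B a) = 0
    rw [AlgHom.commutes, IsScalarTower.algebraMap_apply A (ResidueField A), ResidueField.algebraMap_eq,
      (residue_eq_zero_iff a).2 ha, map_zero]
  have hb : Function.Bijective L := by
    refine ⟨fun x y hxy => ?_, fun z => ?_⟩
    · obtain ⟨x, rfl⟩ := hsurj x
      obtain ⟨y, rfl⟩ := hsurj y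
      rw [hL, hL, Ideal.Quotient.eq] at hxy
      have := hle hxy
      rw [RingHom.mem_ker, map_sub, sub_eq_zero] at this
      exact this
    · obtain ⟨b, rfl⟩ := Ideal.Quotient.mk_surjective z
      exact ⟨_, hL b⟩
  exact ⟨FlatDepth.geomRegular_of_algEquiv (AlgEquiv.ofBijective L hb).symm,
    FlatDepth.geomRegular_of_algEquiv (AlgEquiv.ofBijective L hb)⟩

theorem lifts_of_flat_gr {A B : Type u} [CommRing A] [CommRing B] [IsLocalRing A] [IsLocalRing B]
    [IsNoetherianRing A] [IsNoetherianRing B] (φ : A →+* B) [IsLocalHom φ] (hflat : φ.Flat) (hgr : GR φ) :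
    ArtinCrit5.Lifts φ := by
  algebraize [φ]
  haveI : IsLocalHom (algebraMap A B) := ‹IsLocalHom φ›
  have H : CAlgX.IsAdicFormallySmooth A B (maximalIdeal B) :=
    (FSFlat3.isAdicFormallySmooth_iff (k := ResidueField A) residue_surjective).2
      ⟨hflat, gr_iff_geomRegular_tensor.1 hgr⟩
  intro A' _ _ _ h _ I hI hIm g₀ hg₀ hloc _
  letI := h.toAlgebra
  let g₀A : B →ₐ[A] A' ⧸ I := { g₀ with commutes' := fun a => RingHom.congr_fun hg₀ a }
  obtain ⟨k, hk⟩ : IsNilpotent (maximalIdeal A') := by
    rw [← IsLocalRing.jacobson_eq_maximalIdeal (⊥ : Ideal A') bot_ne_top]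
    exact IsArtinianRing.isNilpotent_jacobson_bot
  have hle : (maximalIdeal B).map g₀ ≤ (maximalIdeal A').map (Ideal.Quotient.mk I) :=
    Ideal.map_le_iff_le_comap.2 fun b hb => hloc b hb
  obtain ⟨χ, hχ⟩ := H A' I (ArtinCrit5.sq_eq_bot hI hIm) g₀A ⟨k, fun b hb => by
    have h1 : g₀ b ∈ ((maximalIdeal A') ^ k).map (Ideal.Quotient.mk I) := by
      rw [Ideal.map_pow]
      exact Ideal.pow_right_mono hle k (by rw [← Ideal.map_pow]; exact Ideal.mem_map_of_mem _ hb)
    rw [hk, Ideal.zero_eq_bot, Ideal.map_bot] at h1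
    exact h1⟩
  exact ⟨χ.toRingHom, χ.comp_algebraMap, RingHom.ext fun b => DFunLike.congr_fun hχ b⟩

theorem flat_gr_of_formallySmooth {A B : Type u} [CommRing A] [CommRing B] [IsLocalRing A] [IsLocalRing B]
    [IsNoetherianRing A] [IsNoetherianRing B] (φ : A →+* B) [IsLocalHom φ] (hφ : φ.FormallySmooth) :
    φ.Flat ∧ GR φ := by
  algebraize [φ]
  haveI : IsLocalHom (algebraMap A B) := ‹IsLocalHom φ›
  haveI : Algebra.FormallySmooth A B := hφ
  have H : CAlgX.IsAdicFormallySmooth A B (maximalIdeal B) := fun C _ _ J hJ ψ _ =>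
    ⟨Algebra.FormallySmooth.lift J ⟨2, hJ⟩ ψ,
      AlgHom.ext fun b => Algebra.FormallySmooth.mk_lift J ⟨2, hJ⟩ ψ b⟩
  have := (FSFlat3.isAdicFormallySmooth_iff (k := ResidueField A) residue_surjective).1 H
  exact ⟨this.1, gr_iff_geomRegular_tensor.2 this.2⟩

variable {X Y : Scheme.{u}} (f : X ⟶ Y) [LocallyOfFiniteType f] [IsLocallyNoetherian Y] (x : X)

theorem mem_smoothLocus_iff [LocallyOfFinitePresentation f] :
    x ∈ f.smoothLocus ↔ (f.stalkMap x).hom.Flat ∧ GR (f.stalkMap x).hom := by
  haveI : IsLocallyNoetherian X := LocallyOfFiniteType.isLocallyNoetherian f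
  refine ⟨fun h => ?_, fun ⟨h1, h2⟩ => ArtinCrit5.mem_smoothLocus_of_lifts f x (lifts_of_flat_gr _ h1 h2)⟩
  rw [Scheme.Hom.mem_smoothLocus] at h
  exact flat_gr_of_formallySmooth _ h

/-- A geometrically regular fibre ring makes the fibre smooth at the point. -/
theorem asFiber_mem_smoothLocus (h : GR (f.stalkMap x).hom) :
    f.asFiber x ∈ (f.fiberToSpecResidueField (f x)).smoothLocus := by
  haveI : IsLocallyNoetherian X := LocallyOfFiniteType.isLocallyNoetherian f
  let y := f x
  let p := f.fiberToSpecResidueField y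
  let g := Y.fromSpecResidueField y
  let w := f.asFiber x
  let ι := f.fiberι y
  haveI : LocallyOfFiniteType p := MorphismProperty.pullback_snd _ _ inferInstance
  haveI : LocallyOfFinitePresentation p := VarDim.locallyOfFinitePresentation_of_locallyNoetherian p
  have hx : ι w = x := f.fiberι_asFiber x
  haveI : Flat p := inferInstanceAs (Flat (p : f.fiber y ⟶ Spec (CommRingCat.of (Y.residueField y))))
  refine (mem_smoothLocus_iff p w).2 ⟨Flat.stalkMap p w, ?_⟩
  have key : ∀ x', ι w = x' → GR (f.stalkMap x').hom → GR (p.stalkMap w).hom := by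
    rintro _ rfl hgr
    obtain ⟨e, he⟩ := EGA43Top.exists_ringEquiv_fiber_stalk f y w
    have hsq : ι ≫ f = p ≫ g := Limits.pullback.condition
    let c := Y.presheaf.stalkCongr (Inseparable.of_eq (show f (ι w) = g (p w) by
      rw [← Scheme.Hom.comp_apply, hsq, Scheme.Hom.comp_apply]))
    have hc : f.stalkMap (ι w) ≫ ι.stalkMap w = (c.hom ≫ g.stalkMap (p w)) ≫ p.stalkMap w := by
      have h1 := Scheme.Hom.stalkMap_congr_hom _ _ hsq w
      rw [Scheme.Hom.stalkMap_comp, Scheme.Hom.stalkMap_comp] at h1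
      simpa [c] using h1
    refine gr_of_square (f.stalkMap (ι w)).hom (p.stalkMap w).hom (c.hom ≫ g.stalkMap (p w)).hom
      (ι.stalkMap w).hom ?_ (ι.stalkMap_surjective w) ?_ (congrArg CommRingCat.Hom.hom hc) hgr
    · exact (g.stalkMap_surjective _).comp (ConcreteCategory.bijective_of_isIso c.hom).2
    · intro b hb
      rw [RingHom.mem_ker] at hb
      exact Ideal.Quotient.eq_zero_iff_mem.1 (e.injective (by rw [he, map_zero]; exact hb))
  exact key x hx.symm.symm h

end Groth.Agent.SmoothGeomReg5
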